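import Groth.Agent.DualS293.Sch
import Groth.Agent.CAlg1.Sk
import Groth.Agent.TF3.DualLoc
import Groth.Agent.TF3.Bidual
import Mathlib.RingTheory.DedekindDomain.PID

/-! Over a Noetherian normal domain, torsion free and `(S_2)` implies reflexive. -/

set_option autoImplicit false
set_option linter.style.haveILetI false
set_option backward.isDefEq.respectTransparency.types false

universe u

namespace Groth.Agent.DualS293

open Groth.Agent

theorem free_of_normal_dim_le_one {R M : Type u} [CommRing R] [IsLocalRing R] [IsNoetherianRing R]
    [IsDomain R] [IsIntegrallyClosed R] [AddCommGroup M] [Module R M] [Module.Finite R M]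
    (hd : ringKrullDim R ≤ 1) (htf : Module.IsTorsionFree R M) : Module.Free R M := by
  haveI : Ring.KrullDimLE 1 R := Ring.krullDimLE_iff.2 (by exact_mod_cast hd)
  haveI : IsDedekindDomain R :=
    { maximalOfPrime := fun h0 hp => Ideal.IsPrime.isMaximal_of_ne_bot hp h0 }
  haveI : IsPrincipalIdealRing R := IsPrincipalIdealRing.of_finite_maximals <| by
    refine (Set.finite_singleton (IsLocalRing.maximalIdeal R)).subset fun I hI => ?_
    exact IsLocalRing.eq_maximalIdeal hI
  exact Module.free_of_finite_type_torsion_free'

theorem isReflexive_of_hasSk_two {A M : Type u} [CommRing A] [IsNoetherianRing A] [IsDomain A]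
    [IsIntegrallyClosed A] [AddCommGroup M] [Module A M] [Module.Finite A M] [Module.IsTorsionFree A M]
    (h : LocCoh.HasSk 2 A M) : Module.IsReflexive A M := by
  haveI : Module.Finite A (Module.Dual A M) := TF3.finite_dual
  haveI : Module.Finite A (Module.Dual A (Module.Dual A M)) := TF3.finite_dual
  refine ⟨CAlg1.bijective_of_depth_two (Module.Dual.eval A M) fun p hp => ?_⟩
  haveI := hp
  let B := Localization.AtPrime p
  haveI : IsNoetherianRing B := IsLocalization.isNoetherianRing p.primeCompl B inferInstance
  haveI : IsDomain B := IsLocalization.isDomain_localization p.primeCompl_le_nonZeroDivisors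
  haveI : IsIntegrallyClosed B :=
    isIntegrallyClosed_of_isLocalization B p.primeCompl p.primeCompl_le_nonZeroDivisors
  haveI : Module.Finite B (LocalizedModule p.primeCompl M) :=
    Module.Finite.of_isLocalizedModule p.primeCompl (LocalizedModule.mkLinearMap p.primeCompl M)
  rcases subsingleton_or_nontrivial M with hM | hM
  · refine Or.inl ((TF3.localized_eval_bijective_iff p).2 ?_)
    haveI : Subsingleton (LocalizedModule p.primeCompl M) :=
      Module.notMem_support_iff.1 (show (⟨p, hp⟩ : PrimeSpectrum A) ∉ Module.support A M by
        rw [Module.support_eq_empty]; exact Set.notMem_empty _)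
    haveI : Module.Free B (LocalizedModule p.primeCompl M) := Module.Free.of_subsingleton B _
    infer_instance
  by_cases hd : ringKrullDim B ≤ 1
  · refine Or.inl ((TF3.localized_eval_bijective_iff p).2 ?_)
    haveI : Module.Free B (LocalizedModule p.primeCompl M) :=
      free_of_normal_dim_le_one hd inferInstance
    infer_instance
  refine Or.inr ⟨?_, fun hass => hd ?_⟩
  · have h2 := h p
    have hs : Module.supportDim B (LocalizedModule p.primeCompl M) = ringKrullDim B := by
      haveI : Nontrivial (LocalizedModule p.primeCompl M) := by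
        refine Module.mem_support_iff.1 ((Module.mem_support_iff_of_finite (p := (⟨p, hp⟩ : PrimeSpectrum A))).2 fun a ha => ?_)
        obtain ⟨m, hm⟩ := exists_ne (0 : M)
        by_contra hap
        exact hm ((smul_eq_zero.1 (Module.mem_annihilator.1 ha m)).resolve_left
          fun h0 => hap (show a ∈ p from h0 ▸ zero_mem p))
      rw [Module.supportDim_eq_ringKrullDim_quotient_annihilator]
      have hann : Module.annihilator B (LocalizedModule p.primeCompl M) = ⊥ := by
        obtain ⟨m, hm⟩ := exists_ne (0 : LocalizedModule p.primeCompl M)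
        exact eq_bot_iff.2 fun a ha => Ideal.mem_bot.2
          ((smul_eq_zero.1 (Module.mem_annihilator.1 ha m)).resolve_right hm)
      rw [hann]
      exact ringKrullDim_eq_of_ringEquiv (RingEquiv.quotientBot B)
    rw [hs] at h2
    rcases min_le_iff.1 h2 with h3 | h3
    · exact WithBot.coe_le_coe.1 h3
    · have h4 : (1 : WithBot ℕ∞) < ringKrullDim B := not_le.1 hd
      have h5 := h4.trans_le h3
      have h6 : (1 : ℕ∞) < LocCoh.depth B (LocalizedModule p.primeCompl M) := WithBot.coe_lt_coe.1 h5
      exact (ENat.add_one_le_iff (by norm_num)).2 h6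
  · obtain ⟨-, φ, hφ⟩ := isAssociatedPrime_iff.mp hass
    have hp0 : p = ⊥ := by
      by_contra hne
      obtain ⟨a, ha, ha0⟩ := Submodule.exists_mem_ne_zero_of_ne_bot hne
      rw [hφ, Submodule.mem_colon_singleton, Submodule.mem_bot] at ha
      have hφ0 : φ = 0 := LinearMap.ext fun m =>
        (mul_eq_zero.1 (LinearMap.congr_fun ha m)).resolve_left ha0
      refine hp.ne_top (eq_top_iff.2 fun r _ => ?_)
      rw [hφ, Submodule.mem_colon_singleton, hφ0, smul_zero]
      exact zero_mem _
    rw [IsLocalization.AtPrime.ringKrullDim_eq_height p B, hp0, Ideal.height_bot]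
    exact zero_le_one

end Groth.Agent.DualS293
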