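import Groth.Agent.DR39.CMLocusSch
import Groth.Agent.EGA4Alg4.DepthChange
import Groth.Agent.CAlg1.Sk
import Groth.Agent.DR39.Dualizing3

/-! The lowest cohomology module of a dualizing complex satisfies `(S_2)`, and is torsion-free over a domain. -/

set_option autoImplicit false
set_option linter.style.haveILetI false
set_option linter.unusedSectionVars false
set_option backward.isDefEq.respectTransparency.types false

universe u

open CategoryTheory CategoryTheory.Limits TensorProduct

attribute [local instance] HasDerivedCategory.standard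

namespace Groth.Agent.DualS293

open Groth.Agent

variable {A : Type u} [CommRing A] {ω : Dual.D A} {n : ℤ}

/-- `Hom(N[0], ω[n]) = Hom(N, Hⁿω)` for finite `N`, injectivity. -/
theorem homToH0_injective [IsNoetherianRing A] (hlow : ∀ i, i < n → IsZero ((DR39.HF A i).obj ω))
    (N : Type u) [AddCommGroup N] [Module A N] [Module.Finite A N] :
    Function.Injective (LC17.homToH0Lin (ModuleCat.of A N) (ω⟦n⟧)) := by
  obtain ⟨r, g, hg⟩ := Module.Finite.exists_fin' A N
  have hS := LC17.shortExact_of_exact (LinearMap.ker g).subtype g (Submodule.subtype_injective _) hg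
    (LinearMap.exact_subtype_ker_map g)
  haveI : Projective (ModuleCat.of A (Fin r → A)) := (IsProjective.iff_projective _).1 inferInstance
  rw [injective_iff_map_eq_zero]
  intro f hf
  have h0 : LC17.pre ω (ModuleCat.ofHom g) n f = 0 := by
    apply (DR39.homToH0_bijective (ModuleCat.of A (Fin r → A)) (ω⟦n⟧)).1
    refine (DR39.homToH0_precomp (ModuleCat.ofHom g) _ f).trans ?_
    rw [show DR39.homToH0 (ModuleCat.of A N) (ω⟦n⟧) f = 0 from hf, comp_zero]
    exact (LC17.homToH0Lin (ModuleCat.of A (Fin r → A)) (ω⟦n⟧)).map_zero.symm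
  obtain ⟨u, hu⟩ := LC17.exact₃ ω hS (n - 1) n (by omega) f h0
  haveI : Subsingleton (LC17.GM ω (ModuleCat.of A (LinearMap.ker g)) (n - 1)) :=
    DR39.subsingleton_hom_low hlow _ (by omega)
  rw [← hu, Subsingleton.elim u 0, map_zero]

theorem homToH0_bijective [IsNoetherianRing A] (hlow : ∀ i, i < n → IsZero ((DR39.HF A i).obj ω))
    (N : Type u) [AddCommGroup N] [Module A N] [Module.Finite A N] :
    Function.Bijective (LC17.homToH0Lin (ModuleCat.of A N) (ω⟦n⟧)) := by
  refine ⟨homToH0_injective hlow N, fun φ => ?_⟩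
  obtain ⟨r, g, hg⟩ := Module.Finite.exists_fin' A N
  have hS := LC17.shortExact_of_exact (LinearMap.ker g).subtype g (Submodule.subtype_injective _) hg
    (LinearMap.exact_subtype_ker_map g)
  haveI : Projective (ModuleCat.of A (Fin r → A)) := (IsProjective.iff_projective _).1 inferInstance
  obtain ⟨f, hf⟩ := (DR39.homToH0_bijective (ModuleCat.of A (Fin r → A)) (ω⟦n⟧)).2
    (ModuleCat.ofHom g ≫ φ)
  have h0 : LC17.pre ω (ModuleCat.ofHom (LinearMap.ker g).subtype) n f = 0 := by
    apply homToH0_injective hlow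
    refine (DR39.homToH0_precomp (ModuleCat.ofHom (LinearMap.ker g).subtype) _ f).trans ?_
    have hz : ModuleCat.ofHom (LinearMap.ker g).subtype ≫ ModuleCat.ofHom g = 0 := by
      ext x; exact x.2
    rw [hf, ← Category.assoc, hz, zero_comp]
    exact (LC17.homToH0Lin _ (ω⟦n⟧)).map_zero.symm
  obtain ⟨f', hf'⟩ := LC17.exact₂ ω hS n f h0
  refine ⟨f', ?_⟩
  haveI : Epi (ModuleCat.ofHom g) := (ModuleCat.epi_iff_surjective _).2 hg
  rw [← cancel_epi (ModuleCat.ofHom g), ← hf, ← hf']
  exact (DR39.homToH0_precomp (ModuleCat.ofHom g) _ f').symm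

variable (hω : Dual.IsDualizing A ω) (hlow : ∀ i, i < n → IsZero ((DR39.HF A i).obj ω))
include hω hlow

section Local

variable [IsLocalRing A]

omit hlow in
theorem subsingleton_of_not_mu {i : ℤ} (h : ¬ DR39.Mu ω (IsLocalRing.maximalIdeal A) i) :
    LC17.gAnn ω (ModuleCat.of A (A ⧸ IsLocalRing.maximalIdeal A)) i = ⊤ := by
  by_contra hne
  exact h (IsLocalRing.le_maximalIdeal hne)

/-- An associated closed point forces the residue degree to be `n`. -/
theorem mu_of_assoc
    (h : IsLocalRing.maximalIdeal A ∈ associatedPrimes A (Dual.HD A ω n)) :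
    DR39.Mu ω (IsLocalRing.maximalIdeal A) n := by
  haveI := hω.isNoetherianRing
  haveI := hω.finite_cohomology n
  by_contra hmu
  have hs := DR39.subsingleton_gm_iff.2 (subsingleton_of_not_mu hω hmu)
  rw [EGA4Alg4.maximalIdeal_mem_assoc_iff_nontrivial_hom] at h
  obtain ⟨φ, hφ⟩ := exists_ne (0 : IsLocalRing.ResidueField A →ₗ[A] Dual.HD A ω n)
  let φ' : ModuleCat.of A (A ⧸ IsLocalRing.maximalIdeal A) ⟶
      (DerivedCategory.homologyFunctor (ModuleCat.{u} A) 0).obj (ω⟦n⟧) :=
    ModuleCat.ofHom φ ≫ (LC17.shiftH ω n).inv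
  obtain ⟨f, hf⟩ := (homToH0_bijective hlow (A ⧸ IsLocalRing.maximalIdeal A)).2 φ'
  have hz : φ' = 0 := by
    rw [← hf, @Subsingleton.elim _ hs f 0]
    exact map_zero _
  refine hφ ?_
  have := congrArg (fun q => q ≫ (LC17.shiftH ω n).hom) hz
  simp only [φ', Category.assoc, Iso.inv_hom_id, Category.comp_id, zero_comp] at this
  exact congrArg ModuleCat.Hom.hom this

theorem one_le_depth (h : ¬ DR39.Mu ω (IsLocalRing.maximalIdeal A) n) :
    (1 : ℕ∞) ≤ LocCoh.depth A (Dual.HD A ω n) := by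
  haveI := hω.isNoetherianRing
  haveI := hω.finite_cohomology n
  rw [Order.one_le_iff_pos, pos_iff_ne_zero, Ne, EGA4Alg4.depth_eq_zero_iff]
  exact fun hc => h (mu_of_assoc hω hlow hc)

theorem two_le_depth (h : ¬ DR39.Mu ω (IsLocalRing.maximalIdeal A) n)
    (h' : ¬ DR39.Mu ω (IsLocalRing.maximalIdeal A) (n + 1)) :
    (2 : ℕ∞) ≤ LocCoh.depth A (Dual.HD A ω n) := by
  haveI := hω.isNoetherianRing
  haveI := hω.finite_cohomology n
  rcases subsingleton_or_nontrivial (Dual.HD A ω n) with hM | hM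
  · simp [EGA4Alg4.depth_of_subsingleton]
  have hass : IsLocalRing.maximalIdeal A ∉ associatedPrimes A (Dual.HD A ω n) :=
    fun hc => h (mu_of_assoc hω hlow hc)
  rw [EGA4Alg4.maximalIdeal_mem_assoc_iff] at hass
  push Not at hass
  obtain ⟨x, hx, hreg⟩ := hass
  rw [← EGA4Alg4.depth_quotSMulTop_add_one hx hreg, show (2 : ℕ∞) = 1 + 1 from rfl]
  refine add_le_add ?_ le_rfl
  rw [Order.one_le_iff_pos, pos_iff_ne_zero, Ne, EGA4Alg4.depth_eq_zero_iff,
    EGA4Alg4.maximalIdeal_mem_assoc_iff_nontrivial_hom]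
  intro hnt
  obtain ⟨φ, hφ⟩ := exists_ne (0 : IsLocalRing.ResidueField A →ₗ[A] QuotSMulTop x (Dual.HD A ω n))
  obtain ⟨y, hy⟩ := Submodule.Quotient.mk_surjective _ (φ (Ideal.Quotient.mk _ 1))
  have hry : ∀ r : IsLocalRing.maximalIdeal A, ∃ z : Dual.HD A ω n, x • z = (r : A) • y := fun r => by
    have h0 : Submodule.Quotient.mk ((r : A) • y) =
        (0 : QuotSMulTop x (Dual.HD A ω n)) := by
      rw [Submodule.Quotient.mk_smul, hy, ← map_smul]
      refine (congrArg φ ?_).trans (map_zero φ)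
      show Submodule.Quotient.mk ((r : A) • (1 : A)) = 0
      rw [Submodule.Quotient.mk_eq_zero, smul_eq_mul, mul_one]
      exact r.2
    rw [Submodule.Quotient.mk_eq_zero, Submodule.mem_smul_pointwise_iff_exists] at h0
    obtain ⟨z, -, hz⟩ := h0
    exact ⟨z, hz⟩
  choose z hz using hry
  let ψ : IsLocalRing.maximalIdeal A →ₗ[A] Dual.HD A ω n :=
    { toFun := z
      map_add' := fun r r' => hreg (show x • z (r + r') = x • (z r + z r') by
        rw [smul_add, hz, hz, hz, Submodule.coe_add, add_smul])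
      map_smul' := fun c r => hreg (show x • z (c • r) = x • (c • z r) by
        rw [smul_comm x c, hz, hz, Submodule.coe_smul, smul_eq_mul, mul_smul]) }
  let ψ' : ModuleCat.of A (IsLocalRing.maximalIdeal A) ⟶
      (DerivedCategory.homologyFunctor (ModuleCat.{u} A) 0).obj (ω⟦n⟧) :=
    ModuleCat.ofHom ψ ≫ (LC17.shiftH ω n).inv
  obtain ⟨f, hf⟩ := (homToH0_bijective hlow (IsLocalRing.maximalIdeal A)).2 ψ'
  have hS := LC17.shortExact_of_exact (IsLocalRing.maximalIdeal A).subtype
    (IsLocalRing.maximalIdeal A).mkQ (Submodule.subtype_injective _) (Submodule.mkQ_surjective _)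
    (LinearMap.exact_subtype_mkQ _)
  obtain ⟨g, hg⟩ := LC17.pre_surjective_of_gAnn_eq_top ω hS n (n + 1) rfl
    (subsingleton_of_not_mu hω h') f
  let H := DR39.homToH0 (ModuleCat.of A A) (ω⟦n⟧) g ≫ (LC17.shiftH ω n).hom
  have hH : ModuleCat.ofHom (IsLocalRing.maximalIdeal A).subtype ≫ H = ModuleCat.ofHom ψ := by
    rw [← Category.assoc, ← DR39.homToH0_precomp]
    show LC17.homToH0Lin (ModuleCat.of A (IsLocalRing.maximalIdeal A)) (ω⟦n⟧)
      (LC17.pre ω (ModuleCat.ofHom (IsLocalRing.maximalIdeal A).subtype) n g) ≫ _ = _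
    rw [hg, hf, Category.assoc, Iso.inv_hom_id, Category.comp_id]
  let m₀ : Dual.HD A ω n := H.hom (1 : A)
  have hH' : ∀ r : IsLocalRing.maximalIdeal A, (r : A) • m₀ = z r := fun r => by
    have := congrArg (fun q => (ModuleCat.Hom.hom q) r) hH
    refine Eq.trans ?_ this
    show (r : A) • H.hom (1 : A) = H.hom (r : A)
    rw [← map_smul, smul_eq_mul, mul_one]
  have hy0 : y = x • m₀ := by
    refine sub_eq_zero.1 (hreg (show x • (y - x • m₀) = x • (0 : Dual.HD A ω n) from ?_))
    rw [smul_zero, smul_sub, sub_eq_zero]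
    refine (hz ⟨x, hx⟩).symm.trans ?_
    rw [← hH' ⟨x, hx⟩]
  refine hφ (LinearMap.ext fun c => ?_)
  obtain ⟨c, rfl⟩ := Ideal.Quotient.mk_surjective c
  rw [show Ideal.Quotient.mk _ c = c • Ideal.Quotient.mk (IsLocalRing.maximalIdeal A) 1 by
    rw [← Ideal.Quotient.mkₐ_eq_mk A, ← map_smul, smul_eq_mul, mul_one]]
  refine (LinearMap.map_smul φ c _).trans ?_
  rw [← hy, hy0, LinearMap.zero_apply,
    (Submodule.Quotient.mk_eq_zero _).2 (Submodule.smul_mem_pointwise_smul m₀ x ⊤ trivial)]
  exact smul_zero c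

theorem min_two_le_depth :
    min (2 : WithBot ℕ∞) (Module.supportDim A (Dual.HD A ω n)) ≤
      ((LocCoh.depth A (Dual.HD A ω n) : ℕ∞) : WithBot ℕ∞) := by
  haveI := hω.isNoetherianRing
  haveI := hω.finite_cohomology n
  obtain ⟨δ, hn⟩ := DR39.exists_normalized hω
  have hω0 := DR39.isDualizing_shift hω δ
  have hmu : ∀ j, DR39.Mu ω (IsLocalRing.maximalIdeal A) j → j = δ := fun j hj => by
    by_contra hne
    have h1 : Subsingleton (Dual.inD A (A ⧸ IsLocalRing.maximalIdeal A) ⟶ ω⟦j⟧) :=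
      @Equiv.subsingleton _ _ (Iso.homToEquiv ((shiftFunctorAdd' (Dual.D A) δ (j - δ) j (by omega)).app ω))
        (hn (j - δ) (by omega))
    rw [DR39.subsingleton_gm_iff] at h1
    rw [DR39.Mu, h1] at hj
    exact (IsLocalRing.maximalIdeal.isMaximal A).ne_top (top_le_iff.1 hj)
  have hdim : Module.supportDim A (Dual.HD A ω n) ≤ (((δ - n).toNat : ℕ∞) : WithBot ℕ∞) := by
    refine DR39.le_supportDim_quotient fun q hq => ?_
    obtain ⟨e, he⟩ := DR39.exists_dim_quotient hω0 hn q.asIdeal
    have eH : Dual.HD A (ω⟦δ⟧) (n - δ) ≃ₗ[A] Dual.HD A ω n :=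
      (((DerivedCategory.homologyFunctor (ModuleCat.{u} A) 0).shiftIso δ (n - δ) n (by omega)).app ω).toLinearEquiv
    rw [← eH.support_eq, Module.mem_support_iff, DR39.nontrivial_localized_HD_iff hω0] at hq
    have := DR39.dim_le_of_gAnn_le hω0 hn A hq he
    rw [he]
    exact_mod_cast (show e ≤ (δ - n).toNat by omega)
  by_cases h0 : δ - n ≤ 0
  · refine (min_le_right _ _).trans (hdim.trans ?_)
    rw [show (δ - n).toNat = 0 by omega]
    exact WithBot.coe_le_coe.2 zero_le
  by_cases h1 : δ - n = 1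
  · refine (min_le_right _ _).trans (hdim.trans ?_)
    rw [h1]
    exact WithBot.coe_le_coe.2 (one_le_depth hω hlow fun h => by have := hmu n h; omega)
  refine (min_le_left _ _).trans (WithBot.coe_le_coe.2 (two_le_depth hω hlow
    (fun h => ?_) (fun h => ?_)))
  · have := hmu n h; omega
  · have := hmu (n + 1) h; omega

end Local

section Global

theorem exists_atPrime (B : Type u) [CommRing B] [Algebra A B] (p : Submonoid A) [IsLocalization p B] [Module.Flat A B] :
    ∃ ω' : Dual.D B, Dual.IsDualizing B ω' ∧ (∀ i, i < n → IsZero ((DR39.HF B i).obj ω')) ∧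
      Nonempty (Dual.HD B ω' n ≃ₗ[B] B ⊗[A] Dual.HD A ω n) ∧
      ω' = (DR39.DF (DR39.extA A B)).obj ω := by
  haveI := hω.isNoetherianRing
  haveI : IsNoetherianRing B := IsLocalization.isNoetherianRing p _ inferInstance
  refine ⟨(DR39.DF (DR39.extA A B)).obj ω,
    DR39.isDualizing_DF_of_extended B hω fun J => ⟨J.comap _, IsLocalization.map_under p _ J⟩,
    fun i hi => ?_, ?_, rfl⟩
  · obtain ⟨e⟩ := DR39.HF_DF (DR39.extA A B) ω i
    exact ((DR39.extA A B).map_isZero (hlow i hi)).of_iso e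
  · obtain ⟨e⟩ := DR39.HF_DF (DR39.extA A B) ω n
    obtain ⟨e'⟩ := DR39.ext_tensorIso B ((DR39.HF A n).obj ω)
    exact ⟨(e ≪≫ e').toLinearEquiv⟩

theorem hasSk_two : LocCoh.HasSk 2 A (Dual.HD A ω n) := by
  intro p _
  obtain ⟨ω', hω', hlow', ⟨e⟩, -⟩ := exists_atPrime hω hlow (Localization.AtPrime p) p.primeCompl
  let e' := e.trans (LocalizedModule.equivTensorProduct p.primeCompl (Dual.HD A ω n)).symm
  have := min_two_le_depth hω' hlow'
  rw [Module.supportDim_eq_of_equiv e', EGA4Alg4.depth_eq_of_equiv e'] at this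
  exact this

theorem assoc_eq_bot [IsDomain A] {p : Ideal A} (hp : p ∈ associatedPrimes A (Dual.HD A ω n)) :
    p = ⊥ := by
  haveI := hω.isNoetherianRing
  haveI := hω.finite_cohomology n
  haveI : p.IsPrime := hp.isPrime
  by_contra hne
  haveI : (⊥ : Ideal A).IsPrime := Ideal.isPrime_bot
  obtain ⟨i0, hi0⟩ := DR39.exists_mu hω (⊥ : Ideal A)
  have hgen : Nontrivial (LocalizedModule (⊥ : Ideal A).primeCompl (Dual.HD A ω i0)) := by
    refine (DR39.nontrivial_localized_HD_iff hω i0 ⟨⊥, inferInstance⟩).2 ?_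
    have h : LC17.gAnn ω (ModuleCat.of A (A ⧸ (⊥ : Ideal A))) i0 ≤ ⊥ := hi0
    rwa [LC17.gAnn_congr ω (Submodule.quotEquivOfEqBot (⊥ : Ideal A) rfl).toModuleIso] at h
  have hi : n ≤ i0 := by
    by_contra hlt
    haveI : Subsingleton (Dual.HD A ω i0) := ModuleCat.subsingleton_of_isZero (hlow i0 (by omega))
    exact not_nontrivial _ hgen
  obtain ⟨j, hj, hj'⟩ := DR39.Mu.exists_gt hω (q := p) (⊥ : Ideal A) inferInstance i0 hi0
    (bot_lt_iff_ne_bot.2 hne)
  obtain ⟨ω', hω', hlow', ⟨e⟩, hdef⟩ := exists_atPrime hω hlow (Localization.AtPrime p) p.primeCompl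
  haveI := hω'.isNoetherianRing
  let e' := e.trans (LocalizedModule.equivTensorProduct p.primeCompl (Dual.HD A ω n)).symm
  have hm : IsLocalRing.maximalIdeal (Localization.AtPrime p) ∈
      associatedPrimes (Localization.AtPrime p) (Dual.HD (Localization.AtPrime p) ω' n) := by
    rw [LinearEquiv.AssociatedPrimes.eq e']
    exact (CAlg1.assoc_atPrime_iff p).2 hp
  have h1 := mu_of_assoc hω' hlow' hm
  have h2 : DR39.Mu ω' (IsLocalRing.maximalIdeal (Localization.AtPrime p)) j := by
    rw [hdef]; exact (DR39.mu_iff_atPrime hω p j).1 hj'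
  have := DR39.mu_unique_maximalIdeal hω' h1 h2
  omega

theorem isTorsionFree [IsDomain A] : Module.IsTorsionFree A (Dual.HD A ω n) := by
  haveI := hω.isNoetherianRing
  refine ⟨fun r hr => ?_⟩
  refine isSMulRegular_iff_right_eq_zero_of_smul.2 fun m hm => ?_
  by_contra hm0
  have : r ∈ ⋃ p ∈ associatedPrimes A (Dual.HD A ω n), (p : Set A) := by
    rw [biUnion_associatedPrimes_eq_zero_divisors]
    exact ⟨m, hm0, hm⟩
  simp only [Set.mem_iUnion] at this
  obtain ⟨p, hp, hrp⟩ := this
  rw [assoc_eq_bot hω hlow hp] at hrp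
  exact hr.ne_zero (Ideal.mem_bot.1 hrp)

/-- Both properties for a localisation of the module. -/
theorem main_localization (S : Type u) [CommRing S] [Algebra A S] (p : Submonoid A) [IsLocalization p S]
    (N : Type u) [AddCommGroup N] [Module A N] [Module S N] [IsScalarTower A S N]
    (f : Dual.HD A ω n →ₗ[A] N) [IsLocalizedModule p f] :
    LocCoh.HasSk 2 S N ∧ (IsDomain S → Module.IsTorsionFree S N) ∧ Module.Finite S N := by
  haveI : Module.Flat A S := IsLocalization.flat _ p
  obtain ⟨ω', hω', hlow', ⟨e⟩, -⟩ := exists_atPrime hω hlow S p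
  have e' := e.trans (IsLocalizedModule.isBaseChange p S f).equiv
  refine ⟨?_, fun hd => ?_, @Module.Finite.equiv _ _ _ _ _ _ _ _ (hω'.finite_cohomology n) e'⟩
  · exact fun q _ => by
      let eq : LocalizedModule q.primeCompl (Dual.HD S ω' n) ≃ₗ[Localization.AtPrime q]
          LocalizedModule q.primeCompl N :=
        LinearEquiv.ofBijective (LocalizedModule.map q.primeCompl e'.toLinearMap)
          ⟨LocalizedModule.map_injective _ _ e'.injective, LocalizedModule.map_surjective _ _ e'.surjective⟩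
      rw [← Module.supportDim_eq_of_equiv eq, ← EGA4Alg4.depth_eq_of_equiv eq]
      exact hasSk_two hω' hlow' q
  · haveI := isTorsionFree hω' hlow'
    exact e'.symm.injective.moduleIsTorsionFree _ (fun r x => map_smul e'.symm r x)

end Global

end Groth.Agent.DualS293
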