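import Groth.Agent.DualS293.Ring
import Groth.Agent.FBase64.RestrictStalk

/-! The lowest cohomology sheaf of a dualizing complex on a scheme: `(S_2)` and torsion freeness of stalks. -/

set_option autoImplicit false
set_option linter.style.haveILetI false
set_option linter.unusedSectionVars false
set_option backward.isDefEq.respectTransparency.types false

noncomputable section

universe u

open CategoryTheory CategoryTheory.Limits AlgebraicGeometry AlgebraicGeometry.StructureSheaf TensorProduct

attribute [local instance] HasDerivedCategory.standard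

namespace Groth.Agent.DualS293

open Groth.Agent

theorem main_stalk {A : CommRingCat.{u}} {ω : Dual.D A} {n : ℤ} (hω : Dual.IsDualizing A ω)
    (hlow : ∀ i, i < n → IsZero ((DR39.HF A i).obj ω)) (y : PrimeSpectrum.Top A)
    (S : CommRingCat.{u}) (σ : S ≅ (Spec A).presheaf.stalk y)
    (N : Type u) [AddCommGroup N] [Module S N]
    (e : N ≃+ (tilde (R := A) ((DR39.HF A n).obj ω)).presheaf.stalk y)
    (he : ∀ (a : S) (m : N), e (a • m) = σ.hom a • e m) :
    LocCoh.HasSk 2 S N ∧ (IsDomain S → Module.IsTorsionFree S N) ∧ Module.Finite S N := by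
  let R := A
  let T := (Spec R).presheaf.stalk y
  let M := (DR39.HF A n).obj ω
  let σ' : S ≃+* T := σ.commRingCatIsoToRingEquiv
  letI : Algebra A T := inferInstanceAs (Algebra R ((Spec.structureSheaf R).presheaf.stalk y))
  haveI : IsLocalization.AtPrime T y.asIdeal :=
    inferInstanceAs (IsLocalization.AtPrime ((Spec.structureSheaf R).presheaf.stalk y) y.asIdeal)
  letI : Algebra A S := (σ'.symm.toRingHom.comp (algebraMap A T)).toAlgebra
  let α : T ≃ₐ[A] S := AlgEquiv.ofRingEquiv (f := σ'.symm) fun _ => rfl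
  haveI : IsLocalization.AtPrime S y.asIdeal :=
    IsLocalization.isLocalization_of_algEquiv y.asIdeal.primeCompl α
  letI : Module A N := Module.compHom N (algebraMap A S)
  haveI : IsScalarTower A S N := IsScalarTower.of_algebraMap_smul fun _ _ => rfl
  haveI : IsScalarTower A T ((tilde (R := R) M).presheaf.stalk y) :=
    inferInstanceAs (IsScalarTower A ((structurePresheafInCommRingCat A).stalk y)
      ↑(TopCat.Presheaf.stalk (moduleStructurePresheaf A M).presheaf y))
  let el : (tilde (R := R) M).presheaf.stalk y ≃ₗ[A] N :=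
    { e.symm with
      map_smul' := fun a z => e.injective <| by
        show e (e.symm (a • z)) = e (algebraMap A S a • e.symm z)
        rw [he, e.apply_symm_apply, e.apply_symm_apply]
        show a • z = σ' (σ'.symm (algebraMap A T a)) • z
        rw [σ'.apply_symm_apply, algebraMap_smul] }
  haveI : IsLocalizedModule y.asIdeal.primeCompl (el.toLinearMap ∘ₗ (tilde.toStalk (R := R) M y).hom) :=
    IsLocalizedModule.of_linearEquiv _ _ _
  exact main_localization hω hlow S y.asIdeal.primeCompl N
    (el.toLinearMap ∘ₗ (tilde.toStalk (R := R) M y).hom)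

theorem main_point (X : Scheme.{u})
    [∀ (U : Scheme.{u}) (j : U ⟶ X) [IsOpenImmersion j], PreservesFiniteLimits (Scheme.Modules.restrictFunctor j)]
    [∀ (R : CommRingCat.{u}), PreservesFiniteLimits (tilde.functor R)]
    (K : DCoh.D X) (hK : Dual2.IsDualizingSch X K) (n : ℤ)
    (hlt : ∀ i : ℤ, i < n → IsZero (DCoh.HD K i)) (x : X) :
    LocCoh.HasSk 2 (X.presheaf.stalk x) ((DCoh.HD K n).presheaf.stalk x) ∧
      (IsDomain (X.presheaf.stalk x) →
        Module.IsTorsionFree (X.presheaf.stalk x) ((DCoh.HD K n).presheaf.stalk x)) ∧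
      Module.Finite (X.presheaf.stalk x) ((DCoh.HD K n).presheaf.stalk x) := by
  obtain ⟨U, hU, hxU, -⟩ := exists_isAffineOpen_mem_and_subset (X := X) (x := x) (U := ⊤) trivial
  obtain ⟨(y : PrimeSpectrum Γ(X, U)), rfl⟩ : x ∈ Set.range hU.fromSpec := by
    rw [hU.range_fromSpec]
    exact hxU
  obtain ⟨ω, hω, ⟨e⟩⟩ := hK Γ(X, U) hU.fromSpec
  let j := hU.fromSpec
  let R := CommRingCat.of Γ(X, U)
  have iso : ∀ i, Nonempty ((Scheme.Modules.restrictFunctor j).obj (DCoh.HD K i) ≅
      (tilde.functor R).obj ((DR39.HF Γ(X, U) i).obj ω)) := fun i => by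
    obtain ⟨e1⟩ := DR39.nonempty_homology_mapDerived (Scheme.Modules.restrictFunctor j) K i
    obtain ⟨e2⟩ := DR39.nonempty_homology_tildeD R ω i
    exact ⟨e1.symm ≪≫ (DerivedCategory.homologyFunctor _ i).mapIso e ≪≫ e2⟩
  have hlow : ∀ i, i < n → IsZero ((DR39.HF Γ(X, U) i).obj ω) := fun i hi => by
    obtain ⟨e'⟩ := iso i
    have hz := ((Scheme.Modules.restrictFunctor j).map_isZero (hlt i hi)).of_iso e'.symm
    exact (IsZero.iff_id_eq_zero _).2 ((tilde.functor R).map_injective (hz.eq_of_src _ _))
  obtain ⟨e'⟩ := iso n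
  let l : ((Scheme.Modules.restrictFunctor j).obj (DCoh.HD K n)).presheaf.stalk y ≃ₗ[(Spec R).presheaf.stalk y]
      ((tilde.functor R).obj ((DR39.HF Γ(X, U) n).obj ω)).presheaf.stalk y :=
    LinearEquiv.ofBijective (QC70.stalkLinear (X := Spec R) e'.hom y)
      ⟨QC70.injective_stalkMapM_of_mono (X := Spec R) e'.hom y,
        QC70.surjective_stalkMapM_of_epi (X := Spec R) e'.hom y⟩
  refine main_stalk hω hlow y _ (asIso (j.stalkMap y)) _
    ((FBase64.AssSheaf.restrictStalkEquiv j (DCoh.HD K n) y).trans l.toAddEquiv) fun a m => ?_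
  show l (FBase64.AssSheaf.restrictStalkEquiv j (DCoh.HD K n) y (a • m)) = _
  rw [FBase64.AssSheaf.restrictStalkEquiv_smul]
  exact l.map_smul _ _

end Groth.Agent.DualS293
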