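import Groth.Agent.DR39.LocalFibre
import Groth.Agent.DR39.CMLocusSch
import Groth.Agent.DCX42.TildeEq
import Groth.Agent.DCX42.Amp
import Groth.Agent.CohDer42.BddInj
import Groth.Agent.QCRes72.Basic
import Groth.Agent.QC70.ExtZero
import Groth.Agent.TorStalk41.Stalk
import Groth.Agent.FBase64.RestrictStalk
import Groth.Prelude.Def_DualSch

/-! A bounded complex of injectives with coherent cohomology and dualizing stalks is dualizing. -/

set_option autoImplicit false
set_option linter.style.haveILetI false
set_option linter.unusedSectionVars false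
set_option backward.isDefEq.respectTransparency.types false

noncomputable section

universe u

open CategoryTheory CategoryTheory.Limits AlgebraicGeometry TensorProduct
open Groth.Agent.DR39 Groth.Agent.DCK91

attribute [local instance] HasDerivedCategory.standard

namespace Groth.Agent.DualS293

variable {X U : Scheme.{u}} (j : U ⟶ X) [IsOpenImmersion j] (y : U)

/-- The stalk at a point of an open, against the stalk of the restriction. -/
def stalkRestrictHom : SP (j y) ⟶
    (Scheme.Modules.restrictFunctor j ⋙ SP y) ⋙ ModuleCat.restrictScalars.{u} (j.stalkMap y).hom where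
  app F :=
    letI : Module (X.presheaf.stalk (j y)) ((F.restrict j).presheaf.stalk y) :=
      Module.compHom _ (j.stalkMap y).hom
    ModuleCat.ofHom (X := F.presheaf.stalk (j y)) (Y := (F.restrict j).presheaf.stalk y)
    { toFun := FBase64.AssSheaf.restrictStalkEquiv j F y
      map_add' := map_add _
      map_smul' := fun a m => FBase64.AssSheaf.restrictStalkEquiv_smul j F y a m }
  naturality F G φ := by
    refine ModuleCat.hom_ext (LinearMap.ext fun m => ?_)
    show FBase64.AssSheaf.restrictStalkEquiv j G y _ = _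
    apply (asIso ((Scheme.Modules.restrictStalkNatIso j y).hom.app G)).addCommGroupIsoToAddEquiv.injective
    refine (AddEquiv.apply_symm_apply _ _).trans ?_
    have h := congr($((Scheme.Modules.restrictStalkNatIso j y).hom.naturality φ)
      (FBase64.AssSheaf.restrictStalkEquiv j F y m))
    refine Eq.trans ?_ h.symm
    exact congrArg _ (AddEquiv.apply_symm_apply
      (asIso ((Scheme.Modules.restrictStalkNatIso j y).hom.app F)).addCommGroupIsoToAddEquiv m).symm

/-- Extending the stalk along the isomorphism of local rings gives the stalk of the restriction. -/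
theorem nonempty_extStalkIso : Nonempty (SP (j y) ⋙
    ModuleCat.extendScalars.{u, u, u} (j.stalkMap y).hom ≅ Scheme.Modules.restrictFunctor j ⋙ SP y) := by
  let φ := (j.stalkMap y).hom
  let adj := ModuleCat.extendRestrictScalarsAdj.{u, u, u} φ
  let β : SP (j y) ⋙ ModuleCat.extendScalars.{u, u, u} φ ⟶
      Scheme.Modules.restrictFunctor j ⋙ SP y :=
    Functor.whiskerRight (stalkRestrictHom j y) _ ≫ (Functor.associator _ _ _).hom ≫
      Functor.whiskerLeft (Scheme.Modules.restrictFunctor j ⋙ SP y) adj.counit ≫ (Functor.rightUnitor _).hom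
  have hsurjφ : Function.Surjective φ := by
    haveI : IsIso (j.stalkMap y) := inferInstance
    exact (ConcreteCategory.bijective_of_isIso (j.stalkMap y)).2
  haveI : ∀ F, IsIso (β.app F) := fun F => by
    rw [ConcreteCategory.isIso_iff_bijective]
    letI : Algebra (X.presheaf.stalk (j y)) (U.presheaf.stalk y) := φ.toAlgebra
    have hval : ∀ n : (SP (j y)).obj F,
        (β.app F) ((adj.unit.app ((SP (j y)).obj F)) n) =
          FBase64.AssSheaf.restrictStalkEquiv j F y n := fun n => by
      show (1 : U.presheaf.stalk y) • (show ((SP y).obj (F.restrict j) : Type u) from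
        FBase64.AssSheaf.restrictStalkEquiv j F y n) = _
      exact one_smul _ _
    have hgen : ∀ z : ((SP (j y) ⋙ ModuleCat.extendScalars.{u, u, u} φ).obj F),
        ∃ n, z = (adj.unit.app ((SP (j y)).obj F)) n := by
      intro z
      let N := (SP (j y)).obj F
      induction z using TensorProduct.induction_on with
      | zero => exact ⟨0, (map_zero _).symm⟩
      | tmul t n =>
        obtain ⟨s, rfl⟩ := hsurjφ t
        refine ⟨s • n, ?_⟩
        refine Eq.trans ?_ ((adj.unit.app N).hom.map_smul s n).symm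
        show φ s ⊗ₜ n = (φ s * 1) ⊗ₜ n
        rw [mul_one]
      | add a b ha hb =>
        obtain ⟨na, rfl⟩ := ha
        obtain ⟨nb, rfl⟩ := hb
        exact ⟨na + nb, (map_add _ _ _).symm⟩
    refine ⟨fun a b hab => ?_, fun m => ?_⟩
    · obtain ⟨na, rfl⟩ := hgen a
      obtain ⟨nb, rfl⟩ := hgen b
      rw [hval, hval] at hab
      rw [(FBase64.AssSheaf.restrictStalkEquiv j F y).injective hab]
    · obtain ⟨n, rfl⟩ := (FBase64.AssSheaf.restrictStalkEquiv j F y).surjective m
      exact ⟨_, hval n⟩
  haveI : IsIso β := NatIso.isIso_of_isIso_app β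
  exact ⟨asIso β⟩

/-- The stalk over the base for the identity is the stalk. -/
theorem nonempty_stalkOverId (x : X) : Nonempty (DerSch.stalkOver (𝟙 X) x ≅ SP x) :=
  ⟨Functor.isoWhiskerLeft (SP x) (ModuleCat.restrictScalarsId' _ (TorStalk41.stalkMap_id_hom x)) ≪≫
    (SP x).rightUnitor⟩

theorem isDualizing_of_iso_ring {S T : Type u} [CommRing S] [CommRing T] (φ : S →+* T) (hφ : Function.Bijective φ)
    {w : Dual.D S} (hw : Dual.IsDualizing S w) (K : DRing.Cx S) (e : (QA S).obj K ≅ w) :
    Dual.IsDualizing T ((QA T).obj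
      (((ModuleCat.extendScalars.{u, u, u} φ).mapHomologicalComplex (ComplexShape.up ℤ)).obj K)) := by
  letI : Algebra S T := φ.toAlgebra
  haveI : Module.Flat S T := RingHom.flat_algebraMap_iff.mp (RingHom.Flat.of_bijective hφ)
  haveI := hw.isNoetherianRing
  haveI : IsNoetherianRing T := isNoetherianRing_of_surjective S T φ hφ.2
  exact isDualizing_of_iso (isDualizing_DF_of_extended T hw fun J => ⟨J.comap φ, Ideal.map_comap_of_surjective φ hφ.2 J⟩)
    ((DF (extA S T)).mapIso e.symm ≪≫ DFQ (extA S T) K)

theorem isLocalization_specGerm (R : CommRingCat.{u}) (y : Spec R) :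
    letI : Algebra R ((Spec R).presheaf.stalk y) := (specGerm R y).toAlgebra
    IsLocalization.AtPrime ((Spec R).presheaf.stalk y) y.asIdeal := by
  have h : (specGerm R y).toAlgebra =
      (inferInstanceAs (Algebra R ((Spec.structureSheaf R).presheaf.stalk y)) :
        Algebra R ((Spec R).presheaf.stalk y)) := Algebra.algebra_ext _ _ fun r => rfl
  show @IsLocalization.AtPrime _ _ _ _ (specGerm R y).toAlgebra y.asIdeal _
  rw [h]
  exact inferInstanceAs (IsLocalization.AtPrime ((Spec.structureSheaf R).presheaf.stalk y) y.asIdeal)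

theorem hom_zero_of_bddInj {A : Type*} [Category A] [Abelian A] [HasDerivedCategory A]
    (I : CochainComplex A ℤ) (hI : ∀ i, Injective (I.X i)) {a b : ℤ}
    (hbdd : ∀ i : ℤ, (i < a ∨ b < i) → IsZero (I.X i)) :
    CohDer42.ExtVanishAbove (DerivedCategory.Q.obj I) b := by
  haveI : I.IsStrictlyGE a := (CochainComplex.isStrictlyGE_iff _ _).2 fun i hi => hbdd i (Or.inl hi)
  haveI : I.IsStrictlyLE b := (CochainComplex.isStrictlyLE_iff _ _).2 fun i hi => hbdd i (Or.inr hi)
  haveI := CochainComplex.isKInjective_of_injective I a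
  exact CohDer42.extVanishAbove_of_kInjective I b

theorem finite_of_restrict_iso {R : CommRingCat.{u}} [IsNoetherianRing R] {F : X.Modules}
    (hF : Coh.IsCoh F) (j : Spec R ⟶ X) [IsOpenImmersion j] (M : ModuleCat.{u} R)
    (e : (Scheme.Modules.restrictFunctor j).obj F ≅ (tilde.functor R).obj M) : Module.Finite R M := by
  haveI : F.IsQuasicoherent := hF.1
  haveI : F.IsFiniteType := hF.2
  haveI := QCRes72.isFiniteType_restrict j F
  exact (QCRes72.isFiniteType_tilde_iff M).mp (QC70.isFiniteType_of_iso (X := Spec R) e)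

theorem main_affine (X : Scheme.{u}) [IsNoetherian X]
    [∀ (U : Scheme.{u}) (j : U ⟶ X) [IsOpenImmersion j], PreservesFiniteLimits (Scheme.Modules.restrictFunctor j)]
    [∀ (R : CommRingCat.{u}), PreservesFiniteLimits (tilde.functor R)]
    (I : CochainComplex X.Modules ℤ) (hIinj : ∀ i : ℤ, Injective (I.X i))
    (hIbdd : ∃ a b : ℤ, ∀ i : ℤ, (i < a ∨ b < i) → IsZero (I.X i))
    (hcoh : ∀ i : ℤ, Coh.IsCoh (DCoh.HD (DCoh.toD X I) i))
    (hst : ∀ x : X, Dual.IsDualizing (X.presheaf.stalk ((𝟙 X : X ⟶ X).base x))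
      (DRing.toD ((DerSch.stalkCxOver (𝟙 X) x).obj I)))
    (R : CommRingCat.{u}) (j : Spec R ⟶ X) [IsOpenImmersion j] :
    ∃ ω : Dual.D R, Dual.IsDualizing R ω ∧
      Nonempty ((DCoh.restrictD j).obj (DCoh.toD X I) ≅ (DCoh.tildeD R).obj ω) := by
  obtain ⟨a, b, hbdd⟩ := hIbdd
  haveI : IsLocallyNoetherian (Spec R) := isLocallyNoetherian_of_isOpenImmersion j
  haveI hR : IsNoetherianRing R := isLocallyNoetherian_Spec.mp inferInstance
  let G := Scheme.Modules.restrictFunctor j
  let J := (G.mapHomologicalComplex (ComplexShape.up ℤ)).obj I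
  have hJinj : ∀ i, Injective (J.X i) := fun i => @QC70.injective_restrict _ _ j _ (I.X i) (hIinj i)
  have hJbdd : ∀ i : ℤ, (i < a ∨ b < i) → IsZero (J.X i) := fun i hi => G.map_isZero (hbdd i hi)
  let K := (DCoh.restrictD j).obj (DCoh.toD X I)
  let eK : K ≅ DerivedCategory.Q.obj J := G.mapDerivedCategoryFactors.app I
  have hHK : ∀ i, Nonempty (DCoh.HD K i ≅ G.obj (DCoh.HD (DCoh.toD X I) i)) := fun i =>
    DR39.nonempty_homology_mapDerived G _ i
  have hK : DCoh.IsQCohD K := fun i => by
    obtain ⟨e⟩ := hHK i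
    haveI : (DCoh.HD (DCoh.toD X I) i).IsQuasicoherent := (hcoh i).1
    exact QC70.isQuasicoherent_of_iso e.symm inferInstance
  obtain ⟨hfull, hfaith, hess⟩ := DCX42.tildeD_fullyFaithful_essImage R
  obtain ⟨ω, ⟨e⟩⟩ := (hess K).1 hK
  refine ⟨ω, ?_, ⟨e.symm⟩⟩
  have hfin : ∀ i, Module.Finite R (Dual.HD R ω i) := fun i => by
    obtain ⟨e1⟩ := hHK i
    obtain ⟨e2⟩ := DR39.nonempty_homology_tildeD R ω i
    exact finite_of_restrict_iso (R := R) (hcoh i) j _
      (e1.symm ≪≫ (DerivedCategory.homologyFunctor _ i).mapIso e.symm ≪≫ e2)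
  have hlow : ∀ i, i < a → IsZero ((HF R i).obj ω) := fun i hi => by
    obtain ⟨e2⟩ := DR39.nonempty_homology_tildeD R ω i
    haveI : CochainComplex.IsStrictlyGE J a := (CochainComplex.isStrictlyGE_iff _ _).2 fun i hi => hJbdd i (Or.inl hi)
    haveI : (DerivedCategory.Q.obj J).IsGE a := (DerivedCategory.isGE_Q_obj_iff J a).2 inferInstance
    have hz := (DerivedCategory.isZero_of_isGE (DerivedCategory.Q.obj J) a i hi).of_iso
      (e2.symm ≪≫ (DerivedCategory.homologyFunctor _ i).mapIso (e ≪≫ eK))
    exact (IsZero.iff_id_eq_zero _).2 ((tilde.functor R).map_injective (hz.eq_of_src _ _))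
  have hvan : CohDer42.ExtVanishAbove K b :=
    CohDer42.extVanishAbove_of_iso eK.symm (hom_zero_of_bddInj J hJinj hJbdd)
  refine isDualizing_of_atMaximal (a := a) (b := b) hfin (fun M _ _ i hi => ?_) fun P _ => ?_
  · rcases hi with hi | hi
    · exact subsingleton_hom_low hlow M hi
    · refine subsingleton_of_forall_eq 0 fun f => ?_
      let T := (tilde.functor R).mapDerivedCategory
      let a1 := ((tilde.functor R).mapDerivedCategorySingleFunctor 0).app (ModuleCat.of R M)
      let a2 : (T.obj (ω⟦i⟧)) ≅ K⟦i⟧ := (T.commShiftIso i).app ω ≪≫ (shiftFunctor _ i).mapIso e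
      have h0 := hvan _ i hi (a1.inv ≫ T.map f ≫ a2.hom)
      rw [Preadditive.IsIso.comp_left_eq_zero, Preadditive.IsIso.comp_right_eq_zero] at h0
      apply T.map_injective
      rw [h0, Functor.map_zero]
  · let y : Spec R := (⟨P, inferInstance⟩ : PrimeSpectrum R)
    obtain ⟨e0⟩ := nonempty_stalkOverId (j y)
    have hbij : Function.Bijective (j.stalkMap y).hom := ConcreteCategory.bijective_of_isIso (j.stalkMap y)
    let K0 := ((SP (j y)).mapHomologicalComplex (ComplexShape.up ℤ)).obj I
    have hT := isDualizing_of_iso_ring (j.stalkMap y).hom hbij (hst (j y)) K0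
      ((QA (X.presheaf.stalk (j y))).mapIso (HomologicalComplex.Hom.isoOfComponents
        (fun k => (e0.app (I.X k)).symm) (fun k l _ => (e0.inv.naturality (I.d k l)).symm)))
    obtain ⟨n⟩ := nonempty_extStalkIso j y
    obtain ⟨E₀, ⟨eE⟩⟩ := DR39.exists_complex_iso (A := R) ω
    let T := (Spec R).presheaf.stalk y
    letI : Algebra R T := (specGerm R y).toAlgebra
    haveI : IsLocalization.AtPrime T P := isLocalization_specGerm R y
    haveI : Module.Flat R T := IsLocalization.flat _ P.primeCompl
    let G' := ((tilde.functor R).mapHomologicalComplex (ComplexShape.up ℤ)).obj E₀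
    let e1 : DerivedCategory.Q.obj G' ≅ DerivedCategory.Q.obj J :=
      ((tilde.functor R).mapDerivedCategoryFactors.app E₀).symm ≪≫
        (tilde.functor R).mapDerivedCategory.mapIso eE ≪≫ e ≪≫ eK
    let eS : ((SP y).mapHomologicalComplex (ComplexShape.up ℤ)).obj G' ≅
        ((extA R T).mapHomologicalComplex (ComplexShape.up ℤ)).obj E₀ :=
      HomologicalComplex.Hom.isoOfComponents (fun k => (tildeStalkIso R y).app (E₀.X k))
        (fun k l _ => ((tildeStalkIso R y).hom.naturality (E₀.d k l)).symm)
    let eJ : ((ModuleCat.extendScalars.{u, u, u} (j.stalkMap y).hom).mapHomologicalComplex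
          (ComplexShape.up ℤ)).obj K0 ≅ ((SP y).mapHomologicalComplex (ComplexShape.up ℤ)).obj J :=
      HomologicalComplex.Hom.isoOfComponents (fun k => n.app (I.X k))
        (fun k l _ => (n.hom.naturality (I.d k l)).symm)
    let eT : (QA T).obj (((ModuleCat.extendScalars.{u, u, u} (j.stalkMap y).hom).mapHomologicalComplex
          (ComplexShape.up ℤ)).obj K0) ≅ (DF (extA R T)).obj ω :=
      (QA T).mapIso eJ ≪≫ ((SP y).mapDerivedCategoryFactors.app J).symm ≪≫
        (SP y).mapDerivedCategory.mapIso e1.symm ≪≫ (SP y).mapDerivedCategoryFactors.app G' ≪≫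
        (QA T).mapIso eS ≪≫ (DFQ (extA R T) E₀).symm ≪≫ (DF (extA R T)).mapIso eE
    have hωT := isDualizing_of_iso hT eT
    let α := IsLocalization.algEquiv P.primeCompl T (Localization.AtPrime P)
    letI : Algebra T (Localization.AtPrime P) := α.toRingEquiv.toRingHom.toAlgebra
    haveI : IsScalarTower R T (Localization.AtPrime P) :=
      IsScalarTower.of_algebraMap_eq fun r => (α.commutes r).symm
    haveI : Module.Flat T (Localization.AtPrime P) :=
      RingHom.flat_algebraMap_iff.mp (RingHom.Flat.of_bijective α.bijective)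
    haveI : IsNoetherianRing (Localization.AtPrime P) :=
      IsLocalization.isNoetherianRing P.primeCompl _ inferInstance
    obtain ⟨ec⟩ := DF_comp T (Localization.AtPrime P) ω
    exact isDualizing_of_iso (isDualizing_DF_of_extended (Localization.AtPrime P) hωT fun Q =>
      ⟨Q.comap α.toRingEquiv.toRingHom, Ideal.map_comap_of_surjective _ α.surjective Q⟩) ec

theorem main (X : Scheme.{u}) [IsNoetherian X]
    [∀ (U : Scheme.{u}) (j : U ⟶ X) [IsOpenImmersion j], PreservesFiniteLimits (Scheme.Modules.restrictFunctor j)]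
    [∀ (R : CommRingCat.{u}), PreservesFiniteLimits (tilde.functor R)]
    (I : CochainComplex X.Modules ℤ) (hIinj : ∀ i : ℤ, Injective (I.X i))
    (hIbdd : ∃ a b : ℤ, ∀ i : ℤ, (i < a ∨ b < i) → IsZero (I.X i))
    (hcoh : ∀ i : ℤ, Coh.IsCoh (DCoh.HD (DCoh.toD X I) i))
    (hst : ∀ x : X, Dual.IsDualizing (X.presheaf.stalk ((𝟙 X : X ⟶ X).base x))
      (DRing.toD ((DerSch.stalkCxOver (𝟙 X) x).obj I))) :
    Dual2.IsDualizingSch X (DCoh.toD X I) := fun A _ j _ =>
  main_affine X I hIinj hIbdd hcoh hst (CommRingCat.of A) j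

end Groth.Agent.DualS293
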